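import Mathlib
import Cfsg.Agent.Lib.CharTheory.Primitive.Average

/-!
An abelian group `V` acted on coprimely by an elementary abelian `q`-group `B` without fixed
points is the direct product of the fixed-point groups of the hyperplanes of `B`; consequently the
automorphisms in a coset `f B`, with `f` normalising `B`, fix on average at most the square root of
the points.
-/

set_option autoImplicit false
set_option linter.unusedSectionVars false
set_option linter.style.haveILetI false

namespace Cfsg.Agent.ChiefAverage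

open Cfsg.Agent.CharTheory.Primitive (fixSub mem_fixSub)

universe u

variable {V : Type u} [CommGroup V] [Finite V]

/-- Index-`q` subgroups. -/
abbrev Hyp {Q : Type u} [Group Q] (q : ℕ) : Type u := {H : Subgroup Q // H.index = q}

variable (B : Subgroup (MulAut V))

/-- The points fixed by a subgroup `H` of `B`. -/
def fixOf (H : Subgroup B) : Subgroup V where
  carrier := {v | ∀ b ∈ H, (b : MulAut V) v = v}
  one_mem' b _ := map_one (b : MulAut V)
  mul_mem' {v w} hv hw b hb := by rw [map_mul, hv b hb, hw b hb]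
  inv_mem' {v} hv b hb := by rw [map_inv, hv b hb]

theorem mem_fixOf {H : Subgroup B} {v : V} : v ∈ fixOf B H ↔ ∀ b ∈ H, (b : MulAut V) v = v :=
  Iff.rfl

theorem eq_one_of_fixed_sup (hfree : ∀ v : V, (∀ b ∈ B, b v = v) → v = 1) {H K : Subgroup B}
    (hsup : H ⊔ K = ⊤) {v : V} (hH : v ∈ fixOf B H) (hK : v ∈ fixOf B K) : v = 1 := by
  let S : Subgroup B :=
    { carrier := {b | (b : MulAut V) v = v}
      one_mem' := rfl
      mul_mem' := fun {a b} (ha : (a : MulAut V) v = v) (hb : (b : MulAut V) v = v) => by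
        show (a : MulAut V) ((b : MulAut V) v) = v
        rw [hb, ha]
      inv_mem' := fun {a} (ha : (a : MulAut V) v = v) => by
        show (a : MulAut V).symm v = v
        exact (a : MulAut V).symm_apply_eq.2 ha.symm }
  have : (⊤ : Subgroup B) ≤ S := hsup ▸ sup_le (fun b hb => hH b hb) (fun b hb => hK b hb)
  exact hfree v fun b hb => this (Subgroup.mem_top (⟨b, hb⟩ : B))

variable {q : ℕ}

theorem sup_eq_top_of_not_le (hq : q.Prime) {H K : Subgroup B} (hH : H.index = q)
    (hne : ¬ K ≤ H) : H ⊔ K = ⊤ := by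
  have hd : (H ⊔ K).index ∣ q := hH ▸ Subgroup.index_dvd_of_le le_sup_left
  rcases (Nat.dvd_prime hq).1 hd with h | h
  · exact Subgroup.index_eq_one.1 h
  · refine absurd ((le_sup_right : K ≤ H ⊔ K).trans (le_of_eq ?_)) hne
    refine (eq_of_le_of_not_lt le_sup_left fun hlt => ?_).symm
    exact absurd (h.trans hH.symm) (Subgroup.index_strictAnti hlt).ne

theorem hyp_sup_eq_top (hq : q.Prime) {H K : Hyp (Q := B) q} (hne : H ≠ K) :
    (H : Subgroup B) ⊔ K = ⊤ := by
  refine sup_eq_top_of_not_le B hq H.2 fun hle => hne (Subtype.ext (le_antisymm ?_ hle))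
  exact (eq_of_le_of_not_lt hle fun hlt =>
    absurd (H.2.trans K.2.symm) (Subgroup.index_strictAnti hlt).ne).ge

/-- Fixed points of hyperplanes generate. -/
theorem fixOf_le (hq : q.Prime) (hcomm : ∀ a ∈ B, ∀ b ∈ B, a * b = b * a)
    (hexp : ∀ b ∈ B, b ^ q = 1) (hcop : ¬ q ∣ Nat.card V)
    (hfree : ∀ v : V, (∀ b ∈ B, b v = v) → v = 1) :
    ∀ (n : ℕ) (K : Subgroup B), K.index ≤ n →
      fixOf B K ≤ ⨆ H : Hyp (Q := B) q, fixOf B H := by
  classical
  intro n
  induction n with
  | zero => intro K hK; exact absurd (Nat.le_zero.1 hK) Subgroup.index_ne_zero_of_finite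
  | succ n ih =>
    intro K hK
    rcases eq_or_ne K ⊤ with rfl | htop
    · intro v hv
      rw [hfree v fun b hb => hv ⟨b, hb⟩ (Subgroup.mem_top _)]
      exact one_mem _
    obtain ⟨x, -, hx⟩ := SetLike.exists_of_lt (lt_top_iff_ne_top.2 htop)
    set L := K ⊔ Subgroup.zpowers x with hL
    by_cases hLtop : L = ⊤
    · -- `K` is a hyperplane
      haveI : (K : Subgroup B).Normal :=
        ⟨fun k hk g => by
          rwa [show g * k * g⁻¹ = k from Subtype.ext (by
            show (g : MulAut V) * k * (g : MulAut V)⁻¹ = k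
            rw [hcomm _ g.2 _ k.2, mul_inv_cancel_right])]⟩
      have hgen : ∀ z : B ⧸ K, z ∈ Subgroup.zpowers (x : B ⧸ K) := by
        intro z
        obtain ⟨b, rfl⟩ := QuotientGroup.mk'_surjective K z
        have hb : b ∈ L := hLtop ▸ Subgroup.mem_top b
        have hm := Subgroup.mem_map_of_mem (QuotientGroup.mk' K) hb
        rw [hL, Subgroup.map_sup, QuotientGroup.map_mk'_self, bot_sup_eq,
          MonoidHom.map_zpowers] at hm
        exact hm
      have hord : orderOf (x : B ⧸ K) = q := by
        haveI := Fact.mk hq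
        refine orderOf_eq_prime ?_ fun h => hx ((QuotientGroup.eq_one_iff x).1 h)
        rw [← QuotientGroup.mk_pow, show x ^ q = 1 from Subtype.ext (hexp x x.2),
          QuotientGroup.mk_one]
      have hidx : K.index = q := by
        rw [Subgroup.index_eq_card, ← hord, orderOf_eq_card_of_forall_mem_zpowers hgen]
      exact le_iSup (fun H : Hyp (Q := B) q => fixOf B H) ⟨K, hidx⟩
    obtain ⟨y, -, hy⟩ := SetLike.exists_of_lt (lt_top_iff_ne_top.2 hLtop)
    intro v hv
    have key : ∀ e : B, e ∉ K → ∀ w ∈ fixOf B K,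
        ∏ i ∈ Finset.range q, ((e ^ i : B) : MulAut V) w ∈ ⨆ H : Hyp (Q := B) q, fixOf B H := by
      intro e he w hw
      have hlt : K < K ⊔ Subgroup.zpowers e :=
        lt_of_le_of_ne le_sup_left fun h => he (h ▸ Subgroup.mem_sup_right (Subgroup.mem_zpowers e))
      refine ih _ (Nat.le_of_lt_succ ((Subgroup.index_strictAnti hlt).trans_le hK)) ?_
      set u := ∏ i ∈ Finset.range q, ((e ^ i : B) : MulAut V) w with hu
      let S : Subgroup B :=
        { carrier := {b | (b : MulAut V) u = u}
          one_mem' := rfl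
          mul_mem' := fun {a b} (ha : (a : MulAut V) u = u) (hb : (b : MulAut V) u = u) => by
            show (a : MulAut V) ((b : MulAut V) u) = u
            rw [hb, ha]
          inv_mem' := fun {a} (ha : (a : MulAut V) u = u) => by
            show (a : MulAut V).symm u = u
            exact (a : MulAut V).symm_apply_eq.2 ha.symm }
      have hle : K ⊔ Subgroup.zpowers e ≤ S := by
        refine sup_le (fun b hb => ?_) (Subgroup.zpowers_le.2 ?_)
        · show (b : MulAut V) u = u
          rw [hu, map_prod]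
          refine Finset.prod_congr rfl fun i _ => ?_
          rw [← MulAut.mul_apply, hcomm _ b.2 _ (e ^ i : B).2, MulAut.mul_apply, hw b hb]
        · show (e : MulAut V) u = u
          rw [hu, map_prod]
          have h1 : ∀ i, (e : MulAut V) (((e ^ i : B) : MulAut V) w) =
              ((e ^ (i + 1) : B) : MulAut V) w := fun i => by rw [pow_succ']; rfl
          simp only [h1]
          obtain ⟨k, rfl⟩ : ∃ k, q = k + 1 := ⟨q - 1, by have := hq.pos; omega⟩
          rw [Finset.prod_range_succ, Finset.prod_range_succ' _ k,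
            show e ^ (k + 1) = 1 from Subtype.ext (hexp e e.2), pow_zero]
      exact fun b hb => hle hb
    have hxy : Commute x y := Subtype.ext (hcomm _ x.2 _ y.2)
    have hne : ∀ j : ℕ, x * y ^ j ∉ K := by
      intro j hj
      have hyj : y ^ j ∈ L := by
        have h := mul_mem (inv_mem (Subgroup.mem_sup_right (S := K) (Subgroup.mem_zpowers x)))
          (Subgroup.mem_sup_left (T := Subgroup.zpowers x) hj)
        rwa [inv_mul_cancel_left] at h
      rcases (Nat.coprime_or_dvd_of_prime hq j) with hco | hdvd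
      · obtain ⟨m, hm⟩ := Nat.exists_mul_mod_eq_one_of_coprime hco.symm hq.one_lt
        have h := pow_mem hyj m
        rw [← pow_mul, ← Nat.mod_add_div (j * m) q, hm.2, pow_add, pow_mul,
          show y ^ q = 1 from Subtype.ext (hexp y y.2), one_pow, mul_one, pow_one] at h
        exact hy h
      · obtain ⟨c, rfl⟩ := hdvd
        rw [pow_mul, show y ^ q = 1 from Subtype.ext (hexp y y.2), one_pow, mul_one] at hj
        exact hx hj
    have hyi : ∀ i, i + 1 < q → y ^ (i + 1) ∉ K := by
      intro i hi h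
      obtain ⟨m, hm⟩ := Nat.exists_mul_mod_eq_one_of_coprime
        (Nat.Coprime.symm (hq.coprime_iff_not_dvd.2 fun hd =>
          absurd (Nat.le_of_dvd (Nat.succ_pos i) hd) (by omega))) hq.one_lt
      have h' := pow_mem h m
      rw [← pow_mul, ← Nat.mod_add_div ((i + 1) * m) q, hm.2, pow_add, pow_mul,
        show y ^ q = 1 from Subtype.ext (hexp y y.2), one_pow, mul_one, pow_one] at h'
      exact hy (Subgroup.mem_sup_left h')
    set M := ⨆ H : Hyp (Q := B) q, fixOf B H
    have hsum : ∏ i ∈ Finset.range q, ∏ j ∈ Finset.range q,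
        (((x * y ^ j) ^ i : B) : MulAut V) v ∈ M := by
      rw [Finset.prod_comm]
      exact prod_mem fun j _ => key _ (hne j) v hv
    have hpow : v ^ q ∈ M := by
      obtain ⟨k, rfl⟩ : ∃ k, q = k + 1 := ⟨q - 1, by have := hq.pos; omega⟩
      rw [Finset.prod_range_succ'] at hsum
      have h0 : ∏ j ∈ Finset.range (k + 1), (((x * y ^ j) ^ 0 : B) : MulAut V) v = v ^ (k + 1) := by
        simp
      rw [h0] at hsum
      refine (Subgroup.mul_mem_cancel_left M (prod_mem fun i hi => ?_)).1 hsum
      have hi' := Finset.mem_range.1 hi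
      have h2 := key _ (hyi i (by omega)) (((x ^ (i + 1) : B) : MulAut V) v) (fun b hb => by
        rw [← MulAut.mul_apply, hcomm _ b.2 _ (x ^ (i + 1) : B).2, MulAut.mul_apply, hv b hb])
      convert h2 using 2 with j
      rw [← MulAut.mul_apply, ← Subgroup.coe_mul, (hxy.pow_right j).mul_pow, ← pow_mul, ← pow_mul,
        mul_comm j, (hxy.pow_pow _ _).eq]
    have hco : (orderOf v).Coprime q := ((hq.coprime_iff_not_dvd.2 fun h =>
      hcop (h.trans (orderOf_dvd_natCard v)))).symm
    obtain ⟨m, hm⟩ := exists_pow_eq_self_of_coprime hco.symm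
    exact hm ▸ pow_mem hpow m

section Decomp

variable [Fintype (Hyp (Q := B) q)]

/-- The multiplication map from the product of the hyperplane fixed groups. -/
noncomputable def joinHom : (∀ H : Hyp (Q := B) q, fixOf B H) →* V where
  toFun w := ∏ H, (w H : V)
  map_one' := by simp
  map_mul' w w' := by simp [Finset.prod_mul_distrib]

theorem joinHom_apply (w : ∀ H : Hyp (Q := B) q, fixOf B H) :
    joinHom B w = ∏ H, (w H : V) := rfl

theorem joinHom_bijective (hq : q.Prime) (hcomm : ∀ a ∈ B, ∀ b ∈ B, a * b = b * a)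
    (hexp : ∀ b ∈ B, b ^ q = 1) (hcop : ¬ q ∣ Nat.card V)
    (hfree : ∀ v : V, (∀ b ∈ B, b v = v) → v = 1) : Function.Bijective (joinHom (q := q) B) := by
  classical
  haveI := Fintype.ofFinite B
  refine ⟨(injective_iff_map_eq_one _).2 fun w hw => funext fun H => ?_, ?_⟩
  · -- apply the trace of `H`
    let P : V →* V :=
      { toFun := fun v => ∏ b : (H : Subgroup B), ((b : B) : MulAut V) v
        map_one' := by simp
        map_mul' := fun a b => by simp [Finset.prod_mul_distrib] }
    have hPfix : ∀ v, P v ∈ fixOf B H := by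
      intro v c hc
      show (c : MulAut V) (∏ b : (H : Subgroup B), ((b : B) : MulAut V) v) = _
      rw [map_prod]
      exact Fintype.prod_equiv (Equiv.mulLeft (⟨c, hc⟩ : (H : Subgroup B))) _ _ fun b => rfl
    have hPoff : ∀ K, K ≠ H → P (w K : V) = 1 := by
      intro K hK
      refine eq_one_of_fixed_sup B hfree (hyp_sup_eq_top B hq hK.symm) (hPfix _) fun c hc => ?_
      show (c : MulAut V) (∏ b : (H : Subgroup B), ((b : B) : MulAut V) (w K : V)) = _
      rw [map_prod]
      refine Finset.prod_congr rfl fun b _ => ?_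
      rw [← MulAut.mul_apply, hcomm _ c.2 _ (b : B).2, MulAut.mul_apply, (w K).2 c hc]
    have h1 : P (w H : V) = (w H : V) ^ Nat.card (H : Subgroup B) := by
      show ∏ b : (H : Subgroup B), ((b : B) : MulAut V) (w H : V) = _
      rw [Finset.prod_congr rfl (g := fun _ => (w H : V)) (fun b _ => (w H).2 _ (SetLike.coe_mem b)),
        Finset.prod_const, Finset.card_univ, Nat.card_eq_fintype_card]
    have h2 := congrArg P hw
    rw [joinHom_apply, map_prod, map_one,
      Finset.prod_eq_single H (fun K _ hK => hPoff K hK) (fun h => absurd (Finset.mem_univ H) h),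
      h1] at h2
    refine Subtype.ext ?_
    have hpg : IsPGroup q B := fun b => ⟨1, Subtype.ext (by simpa using hexp b b.2)⟩
    haveI := Fact.mk hq
    obtain ⟨k, hk⟩ := IsPGroup.iff_card.1 (hpg.to_subgroup (H : Subgroup B))
    have hco : (orderOf (w H : V)).Coprime (Nat.card (H : Subgroup B)) := by
      rw [hk]
      exact Nat.Coprime.pow_right k ((hq.coprime_iff_not_dvd.2 fun h =>
        hcop (h.trans (orderOf_dvd_natCard _)))).symm
    exact orderOf_eq_one_iff.1 (Nat.eq_one_of_dvd_coprimes hco dvd_rfl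
      (orderOf_dvd_of_pow_eq_one h2))
  · intro v
    have hv : v ∈ ⨆ H : Hyp (Q := B) q, fixOf B H :=
      fixOf_le B hq hcomm hexp hcop hfree _ ⊥ le_rfl (fun b hb => by
        rw [Subgroup.mem_bot.1 hb]; rfl)
    have hle : (⨆ H : Hyp (Q := B) q, fixOf B H) ≤ (joinHom (q := q) B).range := by
      refine iSup_le fun H x hx => ⟨Pi.mulSingle H ⟨x, hx⟩, ?_⟩
      rw [joinHom_apply, Finset.prod_eq_single H]
      · simp
      · intro K _ hK
        simp [hK]
      · exact fun h => absurd (Finset.mem_univ H) h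
    exact hle hv

end Decomp

/-- Conjugation by an element normalising `B`. -/
noncomputable def conjB (f : MulAut V) (hf : ∀ b ∈ B, f * b * f⁻¹ ∈ B) [Finite B] : B ≃* B :=
  MulEquiv.ofBijective
    ({ toFun := fun b => (⟨f * b * f⁻¹, hf b b.2⟩ : B)
       map_one' := Subtype.ext (by simp)
       map_mul' := fun a b => Subtype.ext (by simp [mul_assoc]) } : B →* B)
    (Finite.injective_iff_bijective.1 fun a b h => Subtype.ext (by
      simpa using congrArg Subtype.val h))

theorem coe_conjB (f : MulAut V) (hf : ∀ b ∈ B, f * b * f⁻¹ ∈ B) [Finite B] (b : B) :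
    ((conjB B f hf b : B) : MulAut V) = f * b * f⁻¹ := rfl

/-- The coset average. -/
theorem coset_prod_le (hq : q.Prime) [Fintype B] (hcomm : ∀ a ∈ B, ∀ b ∈ B, a * b = b * a)
    (hexp : ∀ b ∈ B, b ^ q = 1) (hcop : ¬ q ∣ Nat.card V)
    (hfree : ∀ v : V, (∀ b ∈ B, b v = v) → v = 1) (f : MulAut V)
    (hf : ∀ b ∈ B, f * b * f⁻¹ ∈ B) :
    ∏ b : B, Nat.card (fixSub (f * (b : MulAut V))) ^ 2 ≤ Nat.card V ^ Fintype.card B := by
  classical
  haveI : Fintype (Hyp (Q := B) q) := Fintype.ofFinite _
  let E := Hyp (Q := B) q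
  let σ : Equiv.Perm E :=
    Equiv.ofBijective
      (fun H => ⟨(H : Subgroup B).map ((conjB B f hf : B ≃* B) : B →* B),
        by rw [Subgroup.index_map_equiv]; exact H.2⟩)
      (Finite.injective_iff_bijective.1 fun H K h => Subtype.ext
        (Subgroup.map_injective (conjB B f hf).injective (congrArg Subtype.val h)))
  -- every element of the coset induces `σ`
  have hmove : ∀ (b : B) (H : E) (v : V), v ∈ fixOf B H → (f * (b : MulAut V)) v ∈ fixOf B (σ H) := by
    rintro b H v hv _ ⟨c, hc, rfl⟩
    show (f * (c : MulAut V) * f⁻¹) (f ((b : MulAut V) v)) = f ((b : MulAut V) v)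
    rw [← MulAut.mul_apply, inv_mul_cancel_right, MulAut.mul_apply, ← @MulAut.mul_apply V _ (c : MulAut V),
      hcomm _ c.2 _ b.2, MulAut.mul_apply, hv c hc]
  have hbij := joinHom_bijective B hq hcomm hexp hcop hfree
  have hcardV : Nat.card V = ∏ H : E, Nat.card (fixOf B (H : Subgroup B)) := by
    rw [← Nat.card_pi]
    exact (Nat.card_congr (Equiv.ofBijective _ hbij)).symm
  -- the components of a fixed point
  have hequiv : ∀ (b : B) (w : ∀ H : E, fixOf B H),
      (f * (b : MulAut V)) (joinHom B w) = joinHom B w →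
      ∀ H : E, (f * (b : MulAut V)) (w H : V) = (w (σ H) : V) := by
    intro b w hw H
    let w' : ∀ H : E, fixOf B H := fun K => ⟨(f * (b : MulAut V)) (w (σ.symm K) : V), by
      simpa using hmove b (σ.symm K) _ (w (σ.symm K)).2⟩
    have h1 : joinHom B w' = (f * (b : MulAut V)) (joinHom B w) := by
      rw [joinHom_apply, joinHom_apply, map_prod]
      exact Fintype.prod_equiv σ.symm _ _ fun K => rfl
    have h2 : w' = w := hbij.1 (h1.trans hw)
    have h4 : ∀ K L : E, σ.symm K = L → (f * (b : MulAut V)) (w L : V) = (w K : V) := by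
      rintro K _ rfl
      exact congrArg Subtype.val (congrFun h2 K)
    exact h4 (σ H) H (σ.symm_apply_apply H)
  -- representatives of the orbits
  let s : Setoid E := Equiv.Perm.SameCycle.setoid σ
  let rep : E → E := fun H => (Quotient.mk s H).out
  have hrep : ∀ H, σ.SameCycle (rep H) H := fun H => Quotient.mk_out (s := s) H
  have hrep_eq : ∀ H K, σ.SameCycle H K → rep H = rep K := fun H K h => by
    show (Quotient.mk s H).out = (Quotient.mk s K).out
    rw [Quotient.sound (s := s) h]
  let R : Finset E := Finset.univ.filter fun H => σ H ≠ H ∧ rep H = H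
  let F : Finset E := Finset.univ.filter fun H => σ H = H
  -- the bound for one element
  have hone : ∀ b : B, Nat.card (fixSub (f * (b : MulAut V))) ≤
      (∏ H ∈ F, Nat.card ↥(fixOf B (H : Subgroup B) ⊓ fixSub (f * (b : MulAut V)))) *
        ∏ H ∈ R, Nat.card (fixOf B (H : Subgroup B)) := by
    intro b
    rw [← Finset.prod_coe_sort F, ← Finset.prod_coe_sort R, ← Nat.card_pi, ← Nat.card_pi,
      ← Nat.card_prod]
    have hpre : ∀ v : fixSub (f * (b : MulAut V)), ∃ w, joinHom B w = (v : V) := fun v => hbij.2 v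
    choose w hw using hpre
    refine Nat.card_le_card_of_injective (fun v =>
      (fun H => ⟨(w v H.1 : V), (w v H.1).2, ?_⟩, fun H => w v H.1)) ?_
    · have h := hequiv b (w v) (by rw [hw]; exact v.2) H.1
      rw [(Finset.mem_filter.1 H.2).2] at h
      exact h
    · intro v v' h
      refine Subtype.ext ?_
      rw [← hw, ← hw]
      refine congrArg (joinHom B) (funext fun H => ?_)
      obtain ⟨hF, hR⟩ := Prod.ext_iff.1 h
      by_cases hH : σ H = H
      · exact Subtype.ext (congrArg Subtype.val (congrFun hF ⟨H, by simp [F, hH]⟩) :)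
      · have hrm : σ (rep H) ≠ rep H := fun h0 => hH (by
          obtain ⟨i, hi⟩ := (hrep H).exists_nat_pow_eq
          have : H = rep H := hi.symm.trans (by
            rw [Equiv.Perm.coe_pow, Function.iterate_fixed h0])
          rw [this, h0])
        have hr : (w v (rep H) : V) = w v' (rep H) := congrArg Subtype.val (congrFun hR ⟨rep H, by
          simp only [R, Finset.mem_filter, Finset.mem_univ, true_and]
          exact ⟨hrm, hrep_eq _ _ (hrep H)⟩⟩)
        obtain ⟨i, hi⟩ := (hrep H).exists_nat_pow_eq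
        have hall : ∀ n : ℕ, (w v ((σ ^ n) (rep H)) : V) = w v' ((σ ^ n) (rep H)) := by
          intro n
          induction n with
          | zero => exact hr
          | succ n ihn =>
            rw [pow_succ', Equiv.Perm.mul_apply, ← hequiv b (w v) (by rw [hw]; exact v.2),
              ← hequiv b (w v') (by rw [hw]; exact v'.2), ihn]
        exact Subtype.ext (hi ▸ hall i)
  -- the fixed hyperplanes
  have hF : ∀ H ∈ F, ∏ b : B, Nat.card ↥(fixOf B (H : Subgroup B) ⊓ fixSub (f * (b : MulAut V))) ^ 2 ≤
      Nat.card (fixOf B (H : Subgroup B)) ^ Fintype.card B := by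
    intro H _
    obtain ⟨z, -, hz⟩ := SetLike.exists_of_lt (lt_top_iff_ne_top.2 (fun h => hq.ne_one
      (by rw [← H.2, h, Subgroup.index_top]) : (H : Subgroup B) ≠ ⊤))
    have hsplit : ∏ b : B, Nat.card ↥(fixOf B (H : Subgroup B) ⊓ fixSub (f * (b : MulAut V))) ^ 2 =
        ∏ b : B, (Nat.card ↥(fixOf B (H : Subgroup B) ⊓ fixSub (f * (b : MulAut V))) *
          Nat.card ↥(fixOf B (H : Subgroup B) ⊓ fixSub (f * ((b * z : B) : MulAut V)))) := by
      rw [Finset.prod_mul_distrib, Finset.prod_pow, sq]
      congr 1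
      exact (Fintype.prod_equiv (Equiv.mulRight z) _ _ fun b => rfl).symm
    rw [hsplit, ← Finset.card_univ, ← Finset.prod_const]
    refine Finset.prod_le_prod' fun b _ => ?_
    rw [← Nat.card_prod]
    refine Nat.card_le_card_of_injective (fun p => (⟨(p.1 : V) * (p.2 : V),
      mul_mem p.1.2.1 p.2.2.1⟩ : fixOf B (H : Subgroup B))) ?_
    intro p p' h
    have h' : (p.1 : V) * p.2 = p'.1 * p'.2 := congrArg Subtype.val h
    have hd : (p.1 : V) / p'.1 = p'.2 / p.2 := by
      rw [div_eq_div_iff_mul_eq_mul, h', mul_comm]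
    set u := (p.1 : V) / p'.1 with hu
    have hu1 : u ∈ fixOf B (H : Subgroup B) ⊓ fixSub (f * (b : MulAut V)) := div_mem p.1.2 p'.1.2
    have hu2 : u ∈ fixOf B (H : Subgroup B) ⊓ fixSub (f * ((b * z : B) : MulAut V)) := hd ▸ div_mem p'.2.2 p.2.2
    have hzu : u ∈ fixOf B (Subgroup.zpowers z) := by
      have hz0 : (z : MulAut V) u = u := (f * (b : MulAut V)).injective (by
        rw [← MulAut.mul_apply, mul_assoc, ← Subgroup.coe_mul,
          show (f * ((b * z : B) : MulAut V)) u = u from hu2.2, show (f * (b : MulAut V)) u = u from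
            hu1.2])
      intro c hc
      obtain ⟨n, rfl⟩ : ∃ n : ℕ, z ^ n = c := mem_powers_iff_mem_zpowers.2 hc
      show ((z ^ n : B) : MulAut V) u = u
      induction n with
      | zero => rfl
      | succ n ihn =>
        rw [pow_succ, Subgroup.coe_mul, MulAut.mul_apply, hz0]
        exact ihn ⟨n, by simp⟩
    have hu0 : u = 1 := eq_one_of_fixed_sup B hfree
      (sup_eq_top_of_not_le B hq H.2 fun h => hz (h (Subgroup.mem_zpowers z))) hu1.1 hzu
    refine Prod.ext (Subtype.ext (div_eq_one.1 hu0)) (Subtype.ext ?_)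
    exact (div_eq_one.1 (hd ▸ hu0)).symm
  -- the moved hyperplanes
  have hR : (∏ H ∈ R, Nat.card (fixOf B (H : Subgroup B))) ^ 2 ≤
      ∏ H ∈ Fᶜ, Nat.card (fixOf B (H : Subgroup B)) := by
    have hshift : ∏ H ∈ R, Nat.card (fixOf B (H : Subgroup B)) ≤
        ∏ H ∈ R.map σ.toEmbedding, Nat.card (fixOf B (H : Subgroup B)) := by
      rw [Finset.prod_map]
      refine Finset.prod_le_prod' fun H _ => Nat.card_le_card_of_injective
        (fun v => ⟨(f * ((1 : B) : MulAut V)) v, hmove 1 H v v.2⟩) fun v v' h => Subtype.ext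
          ((f * ((1 : B) : MulAut V)).injective (congrArg Subtype.val h))
    have hdisj : Disjoint R (R.map σ.toEmbedding) := by
      rw [Finset.disjoint_left]
      intro K hK hK'
      obtain ⟨H, hH, rfl⟩ := Finset.mem_map.1 hK'
      simp only [R, Finset.mem_filter, Finset.mem_univ, true_and, Equiv.coe_toEmbedding] at hH hK
      refine hH.1 ?_
      rw [← hK.2, hrep_eq (σ H) H ⟨-1, by simp⟩, hH.2]
    rw [sq]
    refine (Nat.mul_le_mul le_rfl hshift).trans ?_
    rw [← Finset.prod_union hdisj]
    refine Finset.prod_le_prod_of_subset_of_one_le' ?_ fun H _ _ => Nat.card_pos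
    intro H hH
    simp only [Finset.mem_compl, F, Finset.mem_filter, Finset.mem_univ, true_and]
    rcases Finset.mem_union.1 hH with h | h
    · exact (Finset.mem_filter.1 h).2.1
    · obtain ⟨K, hK, rfl⟩ := Finset.mem_map.1 h
      exact fun h0 => (Finset.mem_filter.1 hK).2.1 (σ.injective h0)
  calc ∏ b : B, Nat.card (fixSub (f * (b : MulAut V))) ^ 2
      ≤ ∏ b : B, ((∏ H ∈ F, Nat.card ↥(fixOf B (H : Subgroup B) ⊓ fixSub (f * (b : MulAut V))) ^ 2) *
          ∏ H ∈ Fᶜ, Nat.card (fixOf B (H : Subgroup B))) := Finset.prod_le_prod' fun b _ => by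
        refine (Nat.pow_le_pow_left (hone b) 2).trans ?_
        rw [mul_pow, ← Finset.prod_pow]
        exact Nat.mul_le_mul le_rfl hR
    _ ≤ (∏ H ∈ F, Nat.card (fixOf B (H : Subgroup B)) ^ Fintype.card B) *
          (∏ H ∈ Fᶜ, Nat.card (fixOf B (H : Subgroup B))) ^ Fintype.card B := by
        rw [Finset.prod_mul_distrib, Finset.prod_comm, Finset.prod_const, Finset.card_univ]
        exact Nat.mul_le_mul (Finset.prod_le_prod' hF) le_rfl
    _ = Nat.card V ^ Fintype.card B := by
        rw [hcardV, Finset.prod_pow, ← mul_pow, Finset.prod_mul_prod_compl]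

end Cfsg.Agent.ChiefAverage
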