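import Mathlib
import Cfsg.Agent.Lib.CharTheory.ChiefAverage.Hyper
import Cfsg.Agent.Lib.Hall.MinimalNormal

/-!
A finite solvable group acting irreducibly and without fixed points on an abelian `p`-group fixes
on average at most the square root of the points.
-/

set_option autoImplicit false
set_option linter.unusedSectionVars false
set_option linter.style.haveILetI false

namespace Cfsg.Agent.ChiefAverage

open Cfsg.Agent.CharTheory.Primitive (fixSub mem_fixSub)

universe u v

theorem irreducible_prod_le {V : Type u} [CommGroup V] [Finite V] {Q : Type v} [Group Q]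
    [Fintype Q] [Group.IsSolvable Q] (ρ : Q →* MulAut V) {p : ℕ} [Fact p.Prime]
    (hV : IsPGroup p V)
    (hirr : ∀ W : Subgroup V, (∀ (g : Q), ∀ w ∈ W, ρ g w ∈ W) → W = ⊥ ∨ W = ⊤)
    (hfix : ∀ v : V, (∀ g, ρ g v = v) → v = 1) :
    ∏ g : Q, Nat.card (fixSub (ρ g)) ^ 2 ≤ Nat.card V ^ Fintype.card Q := by
  classical
  haveI : Finite ρ.range := Finite.of_surjective ρ.rangeRestrict ρ.rangeRestrict_surjective
  haveI : Group.IsSolvable ρ.range :=
    Group.isSolvable_of_surjective ρ.rangeRestrict_surjective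
  rcases eq_or_ne (⊤ : Subgroup ρ.range) ⊥ with htriv | hne
  · -- the action is trivial
    have hall : ∀ g v, ρ g v = v := fun g v => by
      have h : (⟨ρ g, g, rfl⟩ : ρ.range) ∈ (⊥ : Subgroup ρ.range) := htriv ▸ Subgroup.mem_top _
      rw [Subgroup.mem_bot, Subtype.ext_iff] at h
      change ρ g = 1 at h
      rw [h]; rfl
    haveI : Subsingleton V := ⟨fun a b => (hfix a fun g => hall g a).trans
      (hfix b fun g => hall g b).symm⟩
    simp
  obtain ⟨B₀, hB₀n, -, hB₀ne, hmin⟩ := Hall.exists_minimal_normal (⊤ : Subgroup ρ.range) hne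
  haveI := hB₀n
  haveI : Group.IsSolvable B₀ := inferInstance
  obtain ⟨q, hq, -, hqp, hel⟩ := Hall.minimal_normal_isElementaryAbelian hB₀ne hmin
  set B : Subgroup (MulAut V) := B₀.map ρ.range.subtype with hB
  haveI : Finite B := Finite.of_equiv B₀
    (Subgroup.equivMapOfInjective _ _ ρ.range.subtype_injective).toEquiv
  haveI := Fintype.ofFinite B
  have hcomm : ∀ a ∈ B, ∀ b ∈ B, a * b = b * a := by
    rintro _ ⟨a, ha, rfl⟩ _ ⟨b, hb, rfl⟩
    rw [← map_mul, ← map_mul, show a * b = b * a from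
      congrArg Subtype.val (hel.1.is_comm.comm (⟨a, ha⟩ : B₀) ⟨b, hb⟩)]
  have hexp : ∀ b ∈ B, b ^ q = 1 := by
    rintro _ ⟨a, ha, rfl⟩
    rw [← map_pow, hel.2 a ha, map_one]
  have hnorm : ∀ g : Q, ∀ b ∈ B, ρ g * b * (ρ g)⁻¹ ∈ B := by
    rintro g _ ⟨a, ha, rfl⟩
    exact ⟨ρ.rangeRestrict g * a * (ρ.rangeRestrict g)⁻¹, hB₀n.conj_mem a ha _, rfl⟩
  -- the fixed points of `B` form an invariant subgroup
  let C : Subgroup V :=
    { carrier := {v | ∀ b ∈ B, b v = v}
      one_mem' := fun b _ => map_one b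
      mul_mem' := fun {a c} ha hc b hb => by rw [map_mul, ha b hb, hc b hb]
      inv_mem' := fun {a} ha b hb => by rw [map_inv, ha b hb] }
  have hC : C = ⊥ := by
    refine (hirr C fun g w hw b hb => ?_).resolve_right fun h => ?_
    · have h1 := hw _ (show (ρ g)⁻¹ * b * ρ g ∈ B by simpa using hnorm g⁻¹ b hb)
      rw [MulAut.mul_apply, MulAut.mul_apply] at h1
      exact (ρ g).symm.injective (h1.trans ((ρ g).symm_apply_apply w).symm)
    · refine hB₀ne ((Subgroup.eq_bot_iff_forall _).2 fun a ha => Subtype.ext (MulEquiv.ext fun v => ?_))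
      have hv : v ∈ C := h ▸ Subgroup.mem_top v
      exact hv _ ⟨a, ha, rfl⟩
  have hfree : ∀ v : V, (∀ b ∈ B, b v = v) → v = 1 := fun v hv =>
    Subgroup.mem_bot.1 (hC ▸ (hv : v ∈ C))
  -- `B` acts coprimely
  have hcop : ¬ q ∣ Nat.card V := by
    intro hd
    haveI := Fact.mk hq
    have hqp' : q = p := by
      obtain ⟨n, hn⟩ := IsPGroup.iff_card.1 hV
      exact (Nat.prime_dvd_prime_iff_eq hq Fact.out).1 (hq.dvd_of_dvd_pow (hn ▸ hd))
    subst hqp'
    have hBp : IsPGroup q B := fun b => ⟨1, Subtype.ext (by simpa using hexp b b.2)⟩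
    letI : MulAction B V := MulAction.compHom V B.subtype
    obtain ⟨v, hv, hv1⟩ := hBp.exists_fixed_point_of_prime_dvd_card_of_fixed_point V hd (a := 1)
      (fun b => map_one (b : MulAut V))
    exact hv1 (hfree v fun b hb => hv ⟨b, hb⟩).symm
  -- average over the cosets of `B`
  have key : ∀ g : Q, ∏ b : B, Nat.card (fixSub (ρ g * (b : MulAut V))) ^ 2 ≤
      Nat.card V ^ Fintype.card B := fun g =>
    coset_prod_le B hq hcomm hexp hcop hfree (ρ g) (hnorm g)
  have hlift : ∀ b : B, ∃ g : Q, ρ g = (b : MulAut V) := by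
    rintro ⟨_, a, -, rfl⟩
    exact a.2
  choose l hl using hlift
  have htot : ∏ g : Q, ∏ b : B, Nat.card (fixSub (ρ g * (b : MulAut V))) ^ 2 =
      (∏ g : Q, Nat.card (fixSub (ρ g)) ^ 2) ^ Fintype.card B := by
    rw [Finset.prod_comm, ← Finset.card_univ, ← Finset.prod_const]
    refine Finset.prod_congr rfl fun b _ => ?_
    refine Fintype.prod_equiv (Equiv.mulRight (l b)) _ _ fun g => ?_
    show _ = Nat.card (fixSub (ρ (g * l b))) ^ 2
    rw [map_mul, hl]
  have hle := Finset.prod_le_prod' (s := Finset.univ) fun g (_ : g ∈ Finset.univ) => key g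
  rw [htot, Finset.prod_const, Finset.card_univ, ← pow_mul, mul_comm, pow_mul] at hle
  exact (Nat.pow_le_pow_iff_left Fintype.card_ne_zero).1 hle

end Cfsg.Agent.ChiefAverage
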