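import Mathlib
import Cfsg.Agent.Lib.CharTheory.ChiefAverage.Irreducible
import Cfsg.Agent.Lib.CharTheory.Primitive.Structure
import Cfsg.Agent.Lib.CharTheory.Basics
import Cfsg.Agent.Lib.Characters.Kernel
import Cfsg.Agent.S0887
import Cfsg.Agent.BlocksChars.Degrees

/-!
For a primitive character `χ` of a finite solvable group and a prime `p`, some conjugacy class has
`p`-part at least the `p`-part of `χ 1`: along a chief series the `p`-part of the degree grows by
at most half of the exponent of a noncentral `p`-chief factor, while a random element fixes at most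
half of such a factor on average.
-/

set_option autoImplicit false
set_option linter.unusedSectionVars false
set_option linter.style.haveILetI false

namespace Cfsg.Agent.ChiefAverage

open Cfsg.Agent.Characters Cfsg.Agent.CharTheory
open Cfsg.Agent.CharTheory.Primitive (fixSub mem_fixSub Homogeneous homogeneous_of_not_induced)
open scoped ComplexConjugate IsMulCommutative

universe u

variable {G : Type u} [Group G] [Fintype G]

/-- Along one normal step the degree of the constituent grows by a divisor `m` of the index with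
`m ^ 2` at most the index. -/
theorem degree_step {χ : G → ℂ} {K L : Subgroup G} [L.Normal] (hLK : L ≤ K) {θ : K → ℂ}
    (hθ : Cfsg.IsIrrCharacter K θ) {e : ℕ} (he : e ≠ 0) (hK : (fun x : K => χ x) = (e : ℂ) • θ)
    {φ : L → ℂ} (hφ : Cfsg.IsIrrCharacter L φ) {e' : ℕ} (he' : e' ≠ 0)
    (hL : (fun x : L => χ x) = (e' : ℂ) • φ) {d d' : ℕ} (hd : θ 1 = (d : ℂ))
    (hd' : φ 1 = (d' : ℂ)) :
    ∃ m : ℕ, d = d' * m ∧ m ∣ L.relIndex K ∧ m ^ 2 ≤ L.relIndex K := by
  classical
  haveI := Fintype.ofFinite K
  haveI := Fintype.ofFinite L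
  set N : Subgroup K := L.subgroupOf K with hN
  haveI := Fintype.ofFinite N
  let ε : N ≃* L := Subgroup.subgroupOfEquivOfLe hLK
  have hφ' : Cfsg.IsIrrCharacter N (φ ∘ ε) := Basics.isIrrCharacter_comp_equiv ε hφ
  have hres : (fun x : N => θ x) = ((e' : ℂ) / e) • (φ ∘ ε) := by
    funext x
    have h1 := congrFun hK (x : K)
    have h2 := congrFun hL (ε x)
    have hcoe : ((ε x : L) : G) = ((x : K) : G) := rfl
    rw [hcoe] at h2
    simp only [Pi.smul_apply, Function.comp_apply, smul_eq_mul] at h1 h2 ⊢
    have he0 : (e : ℂ) ≠ 0 := Nat.cast_ne_zero.2 he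
    field_simp
    linear_combination h2 - h1
  obtain ⟨m, hm⟩ := classInner_char_nat (isCharacter_restrict N (isCharacter_of_isIrr hθ))
    (isCharacter_of_isIrr hφ')
  have hcm : ((e' : ℂ) / e) = m := by
    rw [← hm, hres, classInner_smul_left, classInner_isIrr_self hφ', mul_one]
  rw [hcm] at hres
  have hdm : d = d' * m := by
    have h1 := congrFun hres 1
    simp only [Pi.smul_apply, Function.comp_apply, map_one, smul_eq_mul, OneMemClass.coe_one,
      hd, hd'] at h1
    exact_mod_cast h1.trans (mul_comm _ _)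
  have hm0 : m ≠ 0 := by
    rintro rfl
    exact div_ne_zero (Nat.cast_ne_zero.2 he') (Nat.cast_ne_zero.2 he) (hcm.trans Nat.cast_zero)
  have hd'0 : 0 < d' := Nat.pos_of_ne_zero fun h => irr_one_ne_zero hφ (by rw [hd', h, Nat.cast_zero])
  have hdvd := (Cfsg.Agent.S0887.result N θ hθ (φ ∘ ε) hφ' (by rw [hm]; exact_mod_cast hm0) d d' hd
    (by rw [Function.comp_apply, map_one, hd'])).2
  rw [hdm, Nat.mul_div_cancel_left _ hd'0] at hdvd
  refine ⟨m, hdm, hdvd, ?_⟩
  -- compare the norms
  have hsum : ∀ {X : Type u} [Group X] [Fintype X] {ψ : X → ℂ}, Cfsg.IsIrrCharacter X ψ →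
      ∑ x : X, Complex.normSq (ψ x) = (Nat.card X : ℝ) := by
    intro X _ _ ψ hψ
    have h := classInner_isIrr_self hψ
    rw [classInner_def, inv_mul_eq_one₀ natCard_ne_zero] at h
    have h' : ((∑ x : X, Complex.normSq (ψ x) : ℝ) : ℂ) = (Nat.card X : ℂ) := by
      rw [h, Complex.ofReal_sum]
      exact Finset.sum_congr rfl fun x _ => (Complex.mul_conj _).symm
    exact_mod_cast h'
  have h1 : ∑ x : N, Complex.normSq (θ x) = (m : ℝ) ^ 2 * Nat.card N := by
    rw [← hsum hφ', Finset.mul_sum]
    refine Finset.sum_congr rfl fun x _ => ?_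
    rw [congrFun hres x, Pi.smul_apply, smul_eq_mul, map_mul, Complex.normSq_natCast, sq]
  have h2 : ∑ x : N, Complex.normSq (θ x) ≤ ∑ x : K, Complex.normSq (θ x) := by
    refine (Finset.sum_map Finset.univ ⟨fun x : N => (x : K), Subtype.val_injective⟩
      fun x => Complex.normSq (θ x)).symm.le.trans ?_
    exact Finset.sum_le_sum_of_subset_of_nonneg (Finset.subset_univ _)
      fun x _ _ => Complex.normSq_nonneg _
  rw [h1, hsum hθ] at h2
  have h3 : m ^ 2 * Nat.card N ≤ Nat.card K := by exact_mod_cast h2
  rw [← N.index_mul_card] at h3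
  exact Nat.le_of_mul_le_mul_right h3 Nat.card_pos

variable (p : ℕ) [Fact p.Prime]

/-- The exponent of `p` in the order of the centraliser of `g` in `K`. -/
noncomputable def centExp (K : Subgroup G) (g : G) : ℕ :=
  (Nat.card ↥(K ⊓ Subgroup.centralizer ({g} : Set G))).factorization p

theorem card_mul_relIndex {L K : Subgroup G} (h : L ≤ K) :
    Nat.card L * L.relIndex K = Nat.card K := by
  rw [← (L.subgroupOf K).card_mul_index, Nat.card_congr (Subgroup.subgroupOfEquivOfLe h).toEquiv]
  rfl

theorem card_inf_eq (K L : Subgroup G) [L.Normal] (hLK : L ≤ K) (C : Subgroup G) :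
    Nat.card ↥(K ⊓ C) =
      Nat.card ↥(L ⊓ C) * Nat.card ((K ⊓ C).map (QuotientGroup.mk' L)) := by
  set f := (QuotientGroup.mk' L).comp (K ⊓ C).subtype
  have h1 := Subgroup.card_eq_card_quotient_mul_card_subgroup f.ker
  rw [Nat.card_congr (QuotientGroup.quotientKerEquivRange f).toEquiv] at h1
  rw [h1, MonoidHom.range_comp, Subgroup.range_subtype, mul_comm]
  congr 1
  refine Nat.card_congr
    ((Equiv.subtypeEquivRight fun x => ?_).trans
      ((Equiv.subtypeSubtypeEquivSubtypeInter (fun x : G => x ∈ K ⊓ C) fun x => x ∈ L).trans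
        (Equiv.subtypeEquivRight fun x => ?_)))
  · exact QuotientGroup.eq_one_iff _
  · exact ⟨fun h => ⟨h.2, h.1.2⟩, fun h => ⟨⟨hLK h.1, h.2⟩, h.1⟩⟩

theorem bound [Group.IsSolvable G] {χ : G → ℂ} (hH : Homogeneous χ) :
    ∀ (n : ℕ) (K : Subgroup G), K.Normal → Nat.card K ≤ n → ∀ (θ : K → ℂ) (e : ℕ),
      Cfsg.IsIrrCharacter K θ → e ≠ 0 → (fun x : K => χ x) = (e : ℂ) • θ → ∀ d : ℕ,
      θ 1 = (d : ℂ) →
      (∑ g : G, centExp p K g) + Fintype.card G * d.factorization p ≤
        Fintype.card G * (Nat.card K).factorization p := by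
  classical
  intro n
  induction n with
  | zero => intro K _ h; exact absurd h (by have := Nat.card_pos (α := K); omega)
  | succ n ih =>
    intro K hKn hKc θ e hθ he hK d hd
    haveI := hKn
    haveI := Fintype.ofFinite K
    rcases eq_or_ne K ⊥ with rfl | hKne
    · have hd1 : d = 1 := by
        have h := irr_degree_one_of_comm (fun a b => Subsingleton.elim _ _) hθ
        rw [hd] at h
        exact_mod_cast h
      have hc : ∀ g : G, centExp p (⊥ : Subgroup G) g = 0 := fun g => by
        simp [centExp]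
      simp [hd1, hc]
    -- a chief factor on top of `L`
    obtain ⟨L, ⟨hLn, hLlt⟩, hLmax⟩ := Set.Finite.exists_maximal
      (Set.toFinite {L : Subgroup G | L.Normal ∧ L < K})
      ⟨⊥, inferInstance, bot_lt_iff_ne_bot.2 hKne⟩
    haveI := hLn
    haveI := Fintype.ofFinite L
    obtain ⟨φ, e', hφ, he', hL⟩ := hH L hLn
    obtain ⟨d', hd'⟩ := char_one_nat (isCharacter_of_isIrr hφ)
    obtain ⟨m, hdm, hmdvd, hmsq⟩ := degree_step hLlt.le hθ he hK hφ he' hL hd hd'
    have hLcard : Nat.card L ≤ n := by
      have h1 : Nat.card L < Nat.card K := lt_of_le_of_ne (Subgroup.card_le_of_le hLlt.le)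
        fun h => hLlt.ne (Subgroup.eq_of_le_of_card_ge hLlt.le h.ge)
      omega
    have IH := ih L hLn hLcard φ e' hφ he' hL d' hd'
    set π := QuotientGroup.mk' L with hπ
    have hπs : Function.Surjective π := QuotientGroup.mk'_surjective L
    set V := K.map π with hV
    haveI hVn : V.Normal := hKn.map π hπs
    have hcV : L.relIndex K = Nat.card V := by
      have h1 := card_inf_eq K L hLlt.le ⊤
      rw [inf_top_eq, inf_top_eq, ← hπ, ← hV, ← card_mul_relIndex hLlt.le] at h1
      exact Nat.eq_of_mul_eq_mul_left Nat.card_pos h1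
    have hVne : V ≠ ⊥ := fun h => hLlt.not_ge ((QuotientGroup.ker_mk' L) ▸
      ((Subgroup.map_eq_bot_iff K).1 h : K ≤ π.ker))
    have hmin : ∀ W : Subgroup (G ⧸ L), W.Normal → W ≤ V → W = ⊥ ∨ W = V := by
      intro W hW hWV
      haveI := hW
      have hLW : L ≤ W.comap π := fun x hx => by
        show π x ∈ W
        rw [show π x = 1 from (QuotientGroup.eq_one_iff x).2 hx]; exact one_mem W
      have hWK : W.comap π ≤ K := by
        refine (Subgroup.comap_mono hWV).trans ?_
        rw [hV, Subgroup.comap_map_eq_self ((QuotientGroup.ker_mk' L).symm ▸ hLlt.le)]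
      rcases hWK.eq_or_lt with h | h
      · exact Or.inr (by rw [hV, ← h, Subgroup.map_comap_eq_self_of_surjective hπs])
      · refine Or.inl ?_
        rw [← Subgroup.map_comap_eq_self_of_surjective hπs W,
          le_antisymm (hLmax ⟨inferInstance, h⟩ hLW) hLW, hπ, QuotientGroup.map_mk'_self]
    haveI : Group.IsSolvable V := inferInstance
    obtain ⟨q, hq, -, hqV, hel⟩ := Hall.minimal_normal_isElementaryAbelian hVne hmin
    haveI := Fact.mk hq
    obtain ⟨k, hk⟩ := IsPGroup.iff_card.1 hqV
    -- the contribution of the factor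
    set I : G → Subgroup (G ⧸ L) :=
      fun g => (K ⊓ Subgroup.centralizer ({g} : Set G)).map π with hI
    have hIle : ∀ g, I g ≤ V := fun g => Subgroup.map_mono inf_le_left
    have hcent : ∀ g, centExp p K g = centExp p L g + (Nat.card (I g)).factorization p := by
      intro g
      show (Nat.card ↥(K ⊓ _)).factorization p = _
      rw [card_inf_eq K L hLlt.le, Nat.factorization_mul Nat.card_pos.ne' Nat.card_pos.ne',
        Finsupp.add_apply]
      rfl
    have hKcard : (Nat.card K).factorization p =
        (Nat.card L).factorization p + (Nat.card V).factorization p := by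
      rw [← card_mul_relIndex hLlt.le, hcV,
        Nat.factorization_mul Nat.card_pos.ne' Nat.card_pos.ne', Finsupp.add_apply]
    have hm0 : m ≠ 0 := by rintro rfl; rw [zero_dvd_iff, hcV] at hmdvd; exact Nat.card_pos.ne' hmdvd
    have hd'0 : d' ≠ 0 := fun h => irr_one_ne_zero hφ (by rw [hd', h, Nat.cast_zero])
    have hdfac : d.factorization p = d'.factorization p + m.factorization p := by
      rw [hdm, Nat.factorization_mul hd'0 hm0, Finsupp.add_apply]
    suffices hstep : (∑ g : G, (Nat.card (I g)).factorization p) +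
        Fintype.card G * m.factorization p ≤ Fintype.card G * (Nat.card V).factorization p by
      rw [Finset.sum_congr rfl fun g _ => hcent g, Finset.sum_add_distrib, hKcard, hdfac, mul_add,
        mul_add]
      omega
    by_cases hqp : q = p
    swap
    · have hzero : ∀ {a : ℕ}, a ∣ Nat.card V → a.factorization p = 0 := fun ha =>
        Nat.factorization_eq_zero_of_not_dvd fun h => hqp
          ((Nat.prime_dvd_prime_iff_eq Fact.out hq).1
            ((Fact.out : p.Prime).dvd_of_dvd_pow (hk ▸ h.trans ha))).symm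
      rw [hzero (hcV ▸ hmdvd), Finset.sum_eq_zero fun g _ => hzero (Subgroup.card_dvd_of_le (hIle g))]
      simp
    subst hqp
    have hVfac : (Nat.card V).factorization q = k := by
      rw [hk, hq.factorization_pow, Finsupp.single_eq_same]
    rw [hcV, hk] at hmdvd hmsq
    obtain ⟨a, -, rfl⟩ := (Nat.dvd_prime_pow hq).1 hmdvd
    have ha : 2 * a ≤ k := by
      rw [← pow_mul, mul_comm] at hmsq
      exact (Nat.pow_le_pow_iff_right hq.one_lt).1 hmsq
    rw [hVfac, hq.factorization_pow, Finsupp.single_eq_same]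
    by_cases hk1 : k ≤ 1
    · have ha0 : a = 0 := by omega
      rw [ha0, mul_zero, add_zero, ← smul_eq_mul, ← Finset.card_univ, ← Finset.sum_const]
      refine Finset.sum_le_sum fun g _ => ?_
      rw [← hVfac]
      exact (Nat.factorization_le_iff_dvd Nat.card_pos.ne' Nat.card_pos.ne').2
        (Subgroup.card_dvd_of_le (hIle g)) q
    -- the action on `V`
    haveI : IsMulCommutative V := hel.1
    let ρ : G →* MulAut V := (MulAut.conjNormal : (G ⧸ L) →* MulAut V).comp π
    have hρ : ∀ (g : G) (v : V), ((ρ g v : V) : G ⧸ L) = π g * v * (π g)⁻¹ := fun g v =>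
      MulAut.conjNormal_apply (π g) v
    have hirr : ∀ W : Subgroup V, (∀ (g : G), ∀ w ∈ W, ρ g w ∈ W) → W = ⊥ ∨ W = ⊤ := by
      intro W hW
      have hWn : (W.map V.subtype).Normal := by
        refine ⟨?_⟩
        rintro _ ⟨w, hw, rfl⟩ x
        obtain ⟨g, rfl⟩ := hπs x
        exact ⟨ρ g w, hW g w hw, hρ g w⟩
      rcases hmin _ hWn (Subgroup.map_subtype_le W) with h | h
      · exact Or.inl ((Subgroup.map_eq_bot_iff_of_injective W V.subtype_injective).1 h)
      · refine Or.inr (Subgroup.map_injective V.subtype_injective ?_)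
        rw [h, ← MonoidHom.range_eq_map, Subgroup.range_subtype]
    have hfix : ∀ v : V, (∀ g, ρ g v = v) → v = 1 := by
      intro v hv
      by_contra hv1
      rcases hirr (Subgroup.zpowers v) (fun g w hw => by
        obtain ⟨i, rfl⟩ := Subgroup.mem_zpowers_iff.1 hw
        rw [map_zpow, hv]; exact Subgroup.zpow_mem_zpowers v i) with h | h
      · exact hv1 (Subgroup.zpowers_eq_bot.1 h)
      · have h1 : Nat.card V = orderOf v := by rw [← Nat.card_zpowers, h, Subgroup.card_top]
        have h2 : orderOf v ∣ q := orderOf_dvd_of_pow_eq_one (Subtype.ext (hel.2 v v.2))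
        rw [← h1, hk] at h2
        have h3 : q ^ k ≤ q ^ 1 := by rw [pow_one]; exact Nat.le_of_dvd hq.pos h2
        exact hk1 ((Nat.pow_le_pow_iff_right hq.one_lt).1 h3)
    have hprod := irreducible_prod_le ρ hqV hirr hfix
    have hj : ∀ g : G, ∃ j, Nat.card (fixSub (ρ g)) = q ^ j ∧ (Nat.card (I g)).factorization q ≤ j := by
      intro g
      obtain ⟨j, hj⟩ := IsPGroup.iff_card.1 (hqV.to_subgroup (fixSub (ρ g)))
      refine ⟨j, hj, ?_⟩
      have hle : (I g).subgroupOf V ≤ fixSub (ρ g) := by
        rintro v ⟨x, hx, hxv⟩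
        refine Subtype.ext ?_
        show ((ρ g v : V) : G ⧸ L) = v
        have hxv' : π x = (v : G ⧸ L) := hxv
        rw [hρ, ← hxv', ← map_mul, ← Subgroup.mem_centralizer_singleton_iff.1 hx.2, map_mul,
          mul_inv_cancel_right]
      have h1 := Subgroup.card_dvd_of_le hle
      rw [Nat.card_congr (Subgroup.subgroupOfEquivOfLe (hIle g)).toEquiv, hj] at h1
      have h2 := (Nat.factorization_le_iff_dvd Nat.card_pos.ne' (pow_ne_zero j hq.ne_zero)).2 h1 q
      rwa [hq.factorization_pow, Finsupp.single_eq_same] at h2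
    choose j hj hjI using hj
    rw [hk, Finset.prod_congr rfl fun g _ => by rw [hj g, ← pow_mul], Finset.prod_pow_eq_pow_sum,
      ← pow_mul, Nat.pow_le_pow_iff_right hq.one_lt, ← Finset.sum_mul] at hprod
    have hsum := Finset.sum_le_sum (s := Finset.univ) fun g (_ : g ∈ Finset.univ) => hjI g
    have h4 : Fintype.card G * (2 * a) ≤ Fintype.card G * k := Nat.mul_le_mul_left _ ha
    have h5 : k * Fintype.card G = Fintype.card G * k := mul_comm _ _
    have h6 : Fintype.card G * (2 * a) = 2 * (Fintype.card G * a) := by ring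
    omega

/-- Some class has `p`-part at least that of the degree of a primitive character. -/
theorem exists_class_factorization_le [Group.IsSolvable G] (χ : Cfsg.IrrCharacter G)
    (hprim : ¬ ∃ (H : Subgroup G), H ≠ ⊤ ∧ ∃ θ : ↥H → ℂ, Cfsg.IsCharacter ↥H θ ∧
      Cfsg.indFun H θ = (χ : G → ℂ)) :
    ∃ g : G, (Cfsg.charDegree (χ : G → ℂ)).factorization p ≤
      ((Subgroup.centralizer ({g} : Set G)).index).factorization p := by
  classical
  have hH : Homogeneous (χ : G → ℂ) :=
    homogeneous_of_not_induced (MonoidHom.id G) Function.surjective_id χ.2 hprim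
  haveI := Fintype.ofFinite (⊤ : Subgroup G)
  have hb := bound p hH _ ⊤ inferInstance le_rfl (fun x => (χ : G → ℂ) x) 1
    (Basics.isIrrCharacter_comp_equiv Subgroup.topEquiv χ.2) one_ne_zero
    (by simp) (Cfsg.charDegree (χ : G → ℂ))
    (by rw [BlocksChars.Degrees.charDegree_cast]; simp)
  rw [Subgroup.card_top] at hb
  set d := (Cfsg.charDegree (χ : G → ℂ)).factorization p
  set v := (Nat.card G).factorization p
  by_contra hcon
  push Not at hcon
  have hall : ∀ g : G, v < centExp p ⊤ g + d := by
    intro g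
    have h := hcon g
    have h2 : v = centExp p ⊤ g +
        ((Subgroup.centralizer ({g} : Set G)).index).factorization p := by
      show (Nat.card G).factorization p = _
      rw [← (Subgroup.centralizer ({g} : Set G)).card_mul_index,
        Nat.factorization_mul Nat.card_pos.ne' Subgroup.index_ne_zero_of_finite, Finsupp.add_apply,
        centExp, top_inf_eq]
    omega
  have hlt : ∑ _g : G, v < ∑ g : G, (centExp p ⊤ g + d) :=
    Finset.sum_lt_sum_of_nonempty Finset.univ_nonempty fun g _ => hall g
  rw [Finset.sum_add_distrib, Finset.sum_const, Finset.sum_const, Finset.card_univ, smul_eq_mul,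
    smul_eq_mul] at hlt
  omega

end Cfsg.Agent.ChiefAverage
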